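import Mathlib

/-!
A normal set of involutions with products of orders two and a fixed prime `p ≥ 5` only.
-/

set_option autoImplicit false
set_option linter.unusedSectionVars false

namespace CfsgLib.RankThreeTrans

universe u v

/-- Products of different members have order two or `p`. -/
structure Two {G : Type u} [Group G] (D : Set G) (p : ℕ) : Prop where
  prime : p.Prime
  five : 5 ≤ p
  inv : ∀ d ∈ D, orderOf d = 2
  conj : ∀ g : G, ∀ d ∈ D, g * d * g⁻¹ ∈ D
  pair : ∀ a ∈ D, ∀ b ∈ D, a ≠ b → orderOf (a * b) = 2 ∨ orderOf (a * b) = p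

namespace Two

variable {G : Type u} [Group G] {D : Set G} {p : ℕ} (T : Two D p)
include T

theorem odd_p : Odd p := T.prime.odd_of_ne_two (by have := T.five; omega)

theorem sq {a : G} (ha : a ∈ D) : a * a = 1 := by rw [← pow_two, ← T.inv a ha, pow_orderOf_eq_one]

theorem inv_eq {a : G} (ha : a ∈ D) : a⁻¹ = a := inv_eq_of_mul_eq_one_right (T.sq ha)

theorem ne_one {a : G} (ha : a ∈ D) : a ≠ 1 := fun e => by simpa [e] using T.inv a ha

theorem sandwich {a b : G} (ha : a ∈ D) (hb : b ∈ D) : a * b * a ∈ D := by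
  simpa [T.inv_eq ha] using T.conj a b hb

theorem commute_iff {a b : G} (ha : a ∈ D) (hb : b ∈ D) : Commute a b ↔ (a * b) * (a * b) = 1 := by
  constructor
  · intro h
    calc a * b * (a * b) = a * (b * a) * b := by group
      _ = (a * a) * (b * b) := by rw [← h.eq]; group
      _ = 1 := by rw [T.sq ha, T.sq hb, one_mul]
  · intro h
    calc a * b = (a * b)⁻¹ := (inv_eq_of_mul_eq_one_right h).symm
      _ = b * a := by rw [mul_inv_rev, T.inv_eq ha, T.inv_eq hb]

theorem order_of_not {a b : G} (ha : a ∈ D) (hb : b ∈ D) (h : ¬ Commute a b) : orderOf (a * b) = p := by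
  refine (T.pair a ha b hb fun e => h (e ▸ Commute.refl a)).resolve_left fun e => h ((T.commute_iff ha hb).mpr ?_)
  rw [← pow_two, ← e, pow_orderOf_eq_one]

theorem not_of_order {a b : G} (ha : a ∈ D) (hb : b ∈ D) (h : orderOf (a * b) = p) : ¬ Commute a b := by
  intro hc
  have h1 : orderOf (a * b) ∣ 2 := orderOf_dvd_of_pow_eq_one (by rw [pow_two]; exact (T.commute_iff ha hb).mp hc)
  have := Nat.le_of_dvd two_pos h1
  have := T.five
  omega

theorem pow_p {a b : G} (ha : a ∈ D) (hb : b ∈ D) (h : ¬ Commute a b) : (a * b) ^ p = 1 := by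
  rw [← T.order_of_not ha hb h, pow_orderOf_eq_one]

omit T in
theorem commute_of_pow {t z : G} {k p : ℕ} (ht : t ^ p = 1) (hk : Nat.Coprime k p) (h : Commute (t ^ k) z) :
    Commute t z := by
  have h1 : orderOf t ∣ p := orderOf_dvd_of_pow_eq_one ht
  obtain ⟨m, hm⟩ := exists_pow_eq_self_of_coprime (hk.coprime_dvd_right h1)
  rw [← hm]
  exact h.pow_left m

/-- A product of two commuting members centralising an opposite of one of them is trivial. -/
theorem translate {a b z : G} (ha : a ∈ D) (hb : b ∈ D) (hne : a ≠ b) (hab : Commute a b) (hz : z ∈ D)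
    (h : Commute (a * b) z) : Commute z a ∧ Commute z b := by
  have key : ∀ a b : G, a ∈ D → b ∈ D → a ≠ b → Commute a b → Commute (a * b) z → Commute z a := by
    intro a b ha hb hne hab h
    by_contra hn
    have ho := T.order_of_not hz ha hn
    -- some conjugate of `z` is `a`
    obtain ⟨k, hk⟩ := T.odd_p
    set g := (z * a) ^ (k + 1)
    have hga : g⁻¹ * z * g = a := by
      have hza : z * (z * a) * z = (z * a)⁻¹ := by
        rw [mul_inv_rev, T.inv_eq hz, T.inv_eq ha, ← mul_assoc z z a, T.sq hz, one_mul]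
      have e2 : z * g * z = g⁻¹ := by
        have e3 : z * g * z⁻¹ = (z * (z * a) * z⁻¹) ^ (k + 1) := by rw [conj_pow]
        rw [T.inv_eq hz, hza, inv_pow] at e3
        exact e3
      calc g⁻¹ * z * g = z * g * z * z * g := by rw [e2]
        _ = z * (g * (z * z) * g) := by group
        _ = z * (z * a) := by
            rw [T.sq hz, mul_one, ← pow_add, show k + 1 + (k + 1) = p + 1 by omega, pow_succ,
              T.pow_p hz ha hn, one_mul]
        _ = a := by rw [← mul_assoc, T.sq hz, one_mul]
    have hcomm : Commute g (a * b) :=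
      ((h.symm).mul_left ((Commute.refl a).mul_right hab)).pow_left _
    -- so `z` times the product is a member
    have hmem : z * (a * b) ∈ D := by
      have : z * (a * b) = g * b * g⁻¹ := by
        calc z * (a * b) = g * (g⁻¹ * z * g) * g⁻¹ * (a * b) := by group
          _ = g * a * (g⁻¹ * (a * b)) := by rw [hga]; group
          _ = g * a * ((a * b) * g⁻¹) := by rw [hcomm.inv_left.eq]
          _ = g * ((a * a) * b) * g⁻¹ := by group
          _ = g * b * g⁻¹ := by rw [T.sq ha, one_mul]
      rw [this]; exact T.conj g b hb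
    -- a product of order `2 p`
    have e : a * (z * (a * b)) = (a * z) * (a * b) := by group
    have hc2 : Commute (a * z) (a * b) := ((Commute.refl a).mul_right hab).mul_left h.symm
    have hu2 : orderOf (a * b) = 2 := by
      refine orderOf_eq_prime (by rw [pow_two]; exact (T.commute_iff ha hb).mp hab) fun e => hne ?_
      rw [mul_eq_one_iff_eq_inv.mp e, T.inv_eq hb]
    have ho' : orderOf (a * z) = p := T.order_of_not ha hz fun e => hn e.symm
    have hord := hc2.orderOf_mul_eq_mul_orderOf_of_coprime (by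
      rw [ho', hu2]; exact Nat.coprime_two_right.mpr T.odd_p)
    rw [← e, ho', hu2] at hord
    have hne' : a ≠ z * (a * b) := by
      intro e'
      rw [← e', T.sq ha, orderOf_one] at hord
      omega
    rcases T.pair a ha _ hmem hne' with e' | e' <;> rw [e'] at hord <;> have := T.five <;> omega
  exact ⟨key a b ha hb hne hab h, key b a hb ha hne.symm hab.symm (hab.eq ▸ h)⟩

/-- Restriction to a subgroup. -/
theorem sub (H : Subgroup G) : Two (Subtype.val ⁻¹' D : Set H) p where
  prime := T.prime
  five := T.five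
  inv d hd := by rw [← Subgroup.orderOf_coe]; exact T.inv _ hd
  conj g d hd := T.conj _ _ hd
  pair a ha b hb hne := by
    rw [← Subgroup.orderOf_coe, Subgroup.coe_mul]
    exact T.pair _ ha _ hb (fun e => hne (Subtype.ext e))

/-- The image in a quotient. -/
theorem map {Q : Type v} [Group Q] (f : G →* Q) (hf : Function.Surjective f) : Two (f '' D \ {1}) p where
  prime := T.prime
  five := T.five
  inv := by
    rintro _ ⟨⟨d, hd, rfl⟩, h1⟩
    exact orderOf_eq_prime (by rw [← map_pow, pow_two, T.sq hd, map_one]) h1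
  conj := by
    rintro g _ ⟨⟨d, hd, rfl⟩, h1⟩
    obtain ⟨k, rfl⟩ := hf g
    exact ⟨⟨_, T.conj k d hd, by simp⟩, fun e => h1 (conj_eq_one_iff.mp e)⟩
  pair := by
    rintro _ ⟨⟨a, ha, rfl⟩, -⟩ _ ⟨⟨b, hb, rfl⟩, -⟩ hne
    have hne' : f (a * b) ≠ 1 := fun e => hne (by
      rw [map_mul, mul_eq_one_iff_eq_inv] at e
      rw [e, ← map_inv, T.inv_eq hb])
    rw [← map_mul]
    have hd := orderOf_map_dvd f (a * b)
    have h1 : orderOf (f (a * b)) ≠ 1 := fun e => hne' (orderOf_eq_one_iff.mp e)
    rcases T.pair a ha b hb (fun e => hne (by rw [e])) with e | e <;> rw [e] at hd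
    · exact Or.inl ((Nat.prime_two.eq_one_or_self_of_dvd _ hd).resolve_left h1)
    · exact Or.inr ((T.prime.eq_one_or_self_of_dvd _ hd).resolve_left h1)

end Two

end CfsgLib.RankThreeTrans
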