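import Cfsg.Agent.Lib.RankThreeTrans.Four
import Cfsg.Agent.Lib.Components

/-!
Commuting is an equivalence on the class, and the kernel of the action on its classes kills every product of two
commuting members.
-/

set_option autoImplicit false
set_option linter.unusedSectionVars false

namespace CfsgLib.RankThreeTrans

universe u

variable {G : Type u} [Group G] [Finite G] {D : Set G} {p : ℕ}

/-- Commuting members of a generating class are twins. -/
theorem Two.commute_twins (T : Two D p) (hgen : Subgroup.closure D = ⊤)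
    (hclass : ∀ a ∈ D, ∀ b ∈ D, ∃ g : G, b = g * a * g⁻¹) {a b : G} (ha : a ∈ D) (hb : b ∈ D) (hab : Commute a b)
    {z : G} (hz : z ∈ D) : Commute z a ↔ Commute z b := by
  -- the commuting members that are not twins
  let Tw : G → G → Prop := fun a b => ∀ z ∈ D, (Commute z a ↔ Commute z b)
  let Nb : G → Set G := fun a => {b | b ∈ D ∧ Commute a b ∧ ¬ Tw a b}
  suffices key : ∀ a ∈ D, Nb a = ∅ by
    by_contra hn
    have : b ∈ Nb a := ⟨hb, hab, fun h => hn (h z hz)⟩
    rw [key a ha] at this
    exact this
  have hopp : ∀ a y, a ∈ D → y ∈ D → ¬ Commute a y → Nb a ⊆ Nb y := by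
    rintro a y ha hy hay b ⟨hb, hab, htw⟩
    have hyb : Commute y b := by
      by_contra hn
      refine htw fun z hz => T.twins ha hb hy ?_ hab (fun h => hay h.symm) hn hz
      rintro rfl
      exact htw fun z _ => Iff.rfl
    exact ⟨hb, hyb, fun h => hay ((h a ha).mpr hab)⟩
  have heq : ∀ a y, a ∈ D → y ∈ D → ¬ Commute a y → Nb a = Nb y := fun a y ha hy h =>
    Set.Subset.antisymm (hopp a y ha hy h) (hopp y a hy ha fun h' => h h'.symm)
  have hstep : ∀ d ∈ D, ∀ a ∈ D, Nb (d * a * d) = Nb a := by
    intro d hd a ha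
    by_cases h : Commute d a
    · rw [h.eq, mul_assoc, T.sq hd, mul_one]
    · have h' : ¬ Commute d (d * a * d) := fun h' => h (by
        show d * a = a * d
        calc d * a = d * a * d * d := by rw [mul_assoc (d * a), T.sq hd, mul_one]
          _ = d * (d * a * d) := h'.eq.symm
          _ = a * d := by rw [← mul_assoc, ← mul_assoc, T.sq hd, one_mul])
      rw [← heq d _ hd (T.sandwich hd ha) h', heq d a hd ha h]
  have hconst : ∀ g : G, ∀ a ∈ D, Nb (g * a * g⁻¹) = Nb a := by
    intro g
    have hg : g ∈ Subgroup.closure D := hgen ▸ Subgroup.mem_top g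
    induction hg using Subgroup.closure_induction'' with
    | mem d hd => intro a ha; rw [T.inv_eq hd]; exact hstep d hd a ha
    | inv_mem d hd => intro a ha; rw [T.inv_eq hd, T.inv_eq hd]; exact hstep d hd a ha
    | one => intro a _; simp
    | mul x y _ _ hx hy =>
      intro a ha
      rw [show x * y * a * (x * y)⁻¹ = x * (y * a * y⁻¹) * x⁻¹ by group, hx _ (T.conj y a ha), hy a ha]
  intro a ha
  refine Set.eq_empty_iff_forall_notMem.mpr fun b hb => ?_
  obtain ⟨g, rfl⟩ := hclass a ha b hb.1
  have := hconst g a ha ▸ hb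
  exact this.2.2 fun z _ => Iff.rfl

/-- With trivial solvable radical no two different members commute. -/
theorem Two.not_commute (T : Two D p) (hgen : Subgroup.closure D = ⊤)
    (hclass : ∀ a ∈ D, ∀ b ∈ D, ∃ g : G, b = g * a * g⁻¹)
    (hsol : ∀ N : Subgroup G, N.Normal → Group.IsSolvable N → N = ⊥) {a b : G} (ha : a ∈ D) (hb : b ∈ D)
    (hne : a ≠ b) (hab : Commute a b) : False := by
  have tw := fun {a b z : G} (ha : a ∈ D) (hb : b ∈ D) (h : Commute a b) (hz : z ∈ D) =>
    T.commute_twins hgen hclass ha hb h hz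
  -- the elements fixing every clique
  let K : Subgroup G :=
    { carrier := {g | ∀ y ∈ D, Commute (g * y * g⁻¹) y}
      one_mem' := fun y _ => by simp
      mul_mem' := fun {g k} hg hk y hy => by
        have h1 := hg _ (T.conj k y hy)
        rw [show g * (k * y * k⁻¹) * g⁻¹ = g * k * y * (g * k)⁻¹ by group] at h1
        exact (tw (T.conj k y hy) hy (hk y hy) (T.conj _ y hy)).mp h1
      inv_mem' := fun {g} hg y hy => by
        have h1 := hg _ (T.conj g⁻¹ y hy)
        rw [show g * (g⁻¹ * y * g⁻¹⁻¹) * g⁻¹ = y by group] at h1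
        exact h1.symm }
  haveI hKn : K.Normal := ⟨fun g hg k y hy => by
    have h1 := hg _ (T.conj k⁻¹ y hy)
    have h2 := h1.map (MulAut.conj k).toMonoidHom
    simp only [MulEquiv.coe_toMonoidHom, MulAut.conj_apply] at h2
    rw [show k * (g * (k⁻¹ * y * k⁻¹⁻¹) * g⁻¹) * k⁻¹ = k * g * k⁻¹ * y * (k * g * k⁻¹)⁻¹ by group,
      show k * (k⁻¹ * y * k⁻¹⁻¹) * k⁻¹ = y by group] at h2
    exact h2⟩
  have hrad : CfsgLib.solvableRadical G = ⊥ :=
    hsol _ inferInstance CfsgLib.isSolvable_solvableRadical
  -- each clique meets the kernel trivially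
  have hmeet : ∀ y ∈ D, Subgroup.closure {d | d ∈ D ∧ Commute d y} ⊓ K = ⊥ := by
    intro y hy
    set A := Subgroup.closure {d | d ∈ D ∧ Commute d y}
    have hAc : ∀ x ∈ A, ∀ z ∈ A, Commute x z := by
      intro x hx z hz
      induction hx, hz using Subgroup.closure_induction₂ with
      | mem x z hx hz => exact (tw hz.1 hy hz.2 hx.1).mpr hx.2
      | one_left x _ => exact Commute.one_left x
      | one_right x _ => exact Commute.one_right x
      | mul_left x y z _ _ _ h1 h2 => exact h1.mul_left h2
      | mul_right x y z _ _ _ h1 h2 => exact h1.mul_right h2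
      | inv_left x z _ _ h => exact h.inv_left
      | inv_right x z _ _ h => exact h.inv_right
    have hKA : ∀ k ∈ K, ∀ x ∈ A, k * x * k⁻¹ ∈ A := by
      intro k hk x hx
      induction hx using Subgroup.closure_induction with
      | mem x hx =>
        refine Subgroup.subset_closure ⟨T.conj k x hx.1, ?_⟩
        exact (tw hx.1 hy hx.2 (T.conj k x hx.1)).mp (hk x hx.1)
      | one => simp
      | mul x z _ _ h1 h2 => simpa [mul_assoc] using mul_mem h1 h2
      | inv x _ h => simpa [mul_assoc] using inv_mem h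
    have hn : ((A ⊓ K).subgroupOf K).Normal := ⟨fun x hx k => by
      rw [Subgroup.mem_subgroupOf] at hx ⊢
      exact ⟨hKA k k.2 _ hx.1, K.mul_mem (K.mul_mem k.2 hx.2) (K.inv_mem k.2)⟩⟩
    have hs : (A ⊓ K).IsSubnormal := Subgroup.IsSubnormal.step _ K inf_le_right hKn.isSubnormal hn
    refine le_bot_iff.mp (hrad ▸ CfsgLib.isSubnormal_solvable_le_radical hs ?_)
    exact Group.isSolvable_of_comm fun x z => Subtype.ext (hAc x x.2.1 z z.2.1)
  have hKbot : K = ⊥ := by
    have hc : K ≤ Subgroup.center G := fun k hk => Subgroup.mem_center_iff.mpr fun g => by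
      have hg : g ∈ Subgroup.closure D := hgen ▸ Subgroup.mem_top g
      have hle : Subgroup.closure D ≤ Subgroup.centralizer {k} := (Subgroup.closure_le _).mpr fun y hy => by
        rw [SetLike.mem_coe, Subgroup.mem_centralizer_singleton_iff]
        have hmem : k * y * k⁻¹ * y ∈ Subgroup.closure {d | d ∈ D ∧ Commute d y} ⊓ K := by
          refine ⟨mul_mem (Subgroup.subset_closure ⟨T.conj k y hy, hk y hy⟩)
            (Subgroup.subset_closure ⟨hy, Commute.refl y⟩), ?_⟩
          have h1 := mul_mem hk (hKn.conj_mem _ (inv_mem hk) y)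
          rw [T.inv_eq hy] at h1
          simpa [mul_assoc] using h1
        rw [hmeet y hy, Subgroup.mem_bot] at hmem
        have h2 : k * y * k⁻¹ = y := by rw [mul_eq_one_iff_eq_inv.mp hmem, T.inv_eq hy]
        exact (mul_inv_eq_iff_eq_mul.mp h2).symm
      exact Subgroup.mem_centralizer_singleton_iff.mp (hle hg)
    refine hsol K hKn (Group.isSolvable_of_comm fun x z => Subtype.ext ?_)
    exact (Subgroup.mem_center_iff.mp (hc x.2) z).symm
  have hu : a * b ∈ K := by
    intro y hy
    rw [show (a * b)⁻¹ = a * b from inv_eq_of_mul_eq_one_right ((T.commute_iff ha hb).mp hab)]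
    by_cases hya : Commute y a
    · have hyb := (tw ha hb hab hy).mp hya
      rw [show a * b * y * (a * b) = a * (b * y) * (a * b) by group, ← hyb.eq,
        show a * (y * b) * (a * b) = (a * y) * (b * a) * b by group, ← hab.eq, ← hya.eq,
        show y * a * (a * b) * b = y * (a * a) * (b * b) by group, T.sq ha, T.sq hb, mul_one, mul_one]
    · exact (T.square ha hb hy hne hab hya fun h => hya ((tw ha hb hab hy).mpr h)).symm
  rw [hKbot, Subgroup.mem_bot, mul_eq_one_iff_eq_inv, T.inv_eq hb] at hu
  exact hne hu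

end CfsgLib.RankThreeTrans
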