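import Cfsg.Agent.Lib.RankThreeTrans.Square

/-!
Commuting members with a common opposite commute with the same members.

The elements `s^k t^k` for the two dihedral elements `t = a y`, `s = b t b` are involutions, so generate an elementary
abelian group; moved by it, `a` and `b` give four commuting members `a, b, c, a b c`.
-/

set_option autoImplicit false
set_option linter.unusedSectionVars false

namespace CfsgLib.RankThreeTrans

universe u

variable {G : Type u} [Group G] [Finite G] {D : Set G} {p : ℕ}

/-- A member commuting with the first of four commuting members `a, b, c, d = a b c` commutes with all of them or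
with none of the others. -/
theorem Two.two_all (T : Two D p) {a b c d z : G} (hc : c ∈ D) (hd : d ∈ D) (hcd : c ≠ d) (hcom : Commute c d)
    (e : a * b = c * d) (hza : Commute z a) (hzb : Commute z b) (hz : z ∈ D) : Commute z c ∧ Commute z d :=
  T.translate hc hd hcd hcom hz (e ▸ (hza.mul_right hzb).symm)

theorem Two.four (T : Two D p) {a b c z : G} (ha : a ∈ D) (hb : b ∈ D) (hc : c ∈ D) (hd : a * b * c ∈ D) (hab' : a ≠ b)
    (hac' : a ≠ c) (hbc' : b ≠ c) (hab : Commute a b) (hac : Commute a c) (hbc : Commute b c) (hz : z ∈ D)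
    (hza : Commute z a) : Commute z b := by
  set d := a * b * c with hdd
  have had : Commute a d := ((Commute.refl a).mul_right hab).mul_right hac
  have hbd : Commute b d := (hab.symm.mul_right (Commute.refl b)).mul_right hbc
  have hcd : Commute c d := (hac.symm.mul_right hbc.symm).mul_right (Commute.refl c)
  have ecd : a * b = c * d := by
    rw [hcd.eq, hdd, mul_assoc (a * b), T.sq hc, mul_one]
  have ebd : a * c = b * d := by
    rw [hbd.eq, hdd, mul_assoc (a * b), ← hbc.eq, mul_assoc a, ← mul_assoc b b, T.sq hb, one_mul]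
  have ead : d = b * c * a := by
    rw [hdd, mul_assoc, (hab.mul_right hac).eq]
  have had' : a * d = b * c := by rw [hdd, mul_assoc, ← mul_assoc a a, T.sq ha, one_mul]
  have hcd' : c ≠ d := fun e => hab' (by
    rw [← e, T.sq hc] at ecd
    rw [mul_eq_one_iff_eq_inv.mp ecd, T.inv_eq hb])
  have hbd' : b ≠ d := fun e => hac' (by
    rw [← e, T.sq hb] at ebd
    rw [mul_eq_one_iff_eq_inv.mp ebd, T.inv_eq hc])
  by_contra hn
  have hzc : ¬ Commute z c := fun h => hn (T.two_all hb hd hbd' hbd ebd hza h hz).1
  have hzd : ¬ Commute z d := fun h => hn (T.two_all hb hc hbc' hbc had' hza h hz).1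
  -- `z` commutes with its conjugate under `b c = a d`, that is under `d`
  have h1 := T.square hb hc hz hbc' hbc hn hzc
  rw [← had'] at h1
  have h2 : a * d * z * (a * d) = d * z * d := by
    rw [had.eq]
    calc d * a * z * (d * a) = d * (a * z) * (d * a) := by group
      _ = d * z * (a * d) * a := by rw [← hza.eq]; group
      _ = d * z * d * (a * a) := by rw [had.eq]; group
      _ = d * z * d := by rw [T.sq ha, mul_one]
  rw [h2] at h1
  have ho := T.order_of_not hz hd hzd
  refine T.not_of_order hz (T.sandwich hd hz) ?_ h1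
  rw [show z * (d * z * d) = (z * d) ^ 2 by rw [pow_two]; simp only [mul_assoc],
    Nat.Coprime.orderOf_pow (by rw [ho]; exact Nat.coprime_two_right.mpr T.odd_p), ho]

theorem Two.exists_four (T : Two D p) {a b y : G} (ha : a ∈ D) (hb : b ∈ D) (hy : y ∈ D) (hne : a ≠ b) (hab : Commute a b)
    (hya : ¬ Commute y a) (hyb : ¬ Commute y b) :
    ∃ c ∈ D, a * b * c ∈ D ∧ a ≠ c ∧ b ≠ c ∧ Commute a c ∧ Commute b c := by
  classical
  have ha2 := T.sq ha
  have hb2 := T.sq hb
  have hy2 := T.sq hy
  have hai := T.inv_eq ha
  have hbi := T.inv_eq hb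
  set t := a * y with ht
  set s := b * t * b with hs
  have hat : a * t * a = t⁻¹ := by
    rw [ht, mul_inv_rev, hai, T.inv_eq hy, ← mul_assoc a a y, ha2, one_mul]
  have htp : t ^ p = 1 := T.pow_p ha hy fun h => hya h.symm
  have hsk : ∀ k, s ^ k = b * t ^ k * b := fun k => by
    have : s ^ k = (b * t * b⁻¹) ^ k := by rw [hs, hbi]
    rw [this, conj_pow, hbi]
  have hsp : s ^ p = 1 := by rw [hsk, htp, mul_one, hb2]
  have hatk : ∀ k, a * t ^ k * a = (t ^ k)⁻¹ := fun k => by
    have : a * t ^ k * a⁻¹ = (a * t * a⁻¹) ^ k := by rw [conj_pow]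
    rw [hai, hat, inv_pow] at this
    exact this
  obtain ⟨l, hl⟩ := T.odd_p
  -- the involutions
  let v : ℕ → G := fun k => s ^ k * t ^ k
  have hv2 : ∀ k, v k * v k = 1 := by
    intro k
    by_cases hk : p ∣ k
    · obtain ⟨j, rfl⟩ := hk
      simp [v, pow_mul, htp, hsp]
    have hcop : Nat.Coprime k p := (T.prime.coprime_iff_not_dvd.mpr hk).symm
    set w := a * t ^ k with hw
    have hwD : w ∈ D := by
      obtain ⟨j, hj⟩ : ∃ j, k % 2 = 0 ∧ k = 2 * j ∨ k % 2 = 1 ∧ k + p = 2 * j := by
        rcases Nat.mod_two_eq_zero_or_one k with e | e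
        · exact ⟨k / 2, Or.inl ⟨e, by omega⟩⟩
        · exact ⟨(k + p) / 2, Or.inr ⟨e, by omega⟩⟩
      have h1 := CfsgThreeTrans.conj_pow_mul ha2 hy2 j
      rw [← ht] at h1
      have h2 : t ^ (2 * j) = t ^ k := by
        rcases hj with ⟨-, rfl⟩ | ⟨-, e⟩
        · rfl
        · rw [← e, pow_add, htp, mul_one]
      rw [hw, ← h2, ← h1]
      simpa using T.conj (t ^ j)⁻¹ a ha
    have hopa : ¬ Commute w a := fun h => hya (by
      have h1 : Commute (t ^ k) a := by
        have := h.mul_left (Commute.refl a)
        show t ^ k * a = a * t ^ k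
        calc t ^ k * a = a * (a * t ^ k) * a := by rw [← mul_assoc a a, ha2, one_mul]
          _ = a * (a * (a * t ^ k)) := by rw [mul_assoc a (a * t ^ k) a, h.eq]
          _ = a * t ^ k := by rw [← mul_assoc a a, ha2, one_mul]
      have h2 : Commute t a := Two.commute_of_pow htp hcop h1
      have h3 : Commute (a * (a * y)) a := (Commute.refl a).mul_left h2
      rwa [← mul_assoc, ha2, one_mul] at h3)
    have hopb : ¬ Commute w b := fun h => hyb (by
      have h1 : Commute (t ^ k) b := by
        have := hab.mul_left h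
        rwa [hw, ← mul_assoc, ha2, one_mul] at this
      have h2 : Commute t b := Two.commute_of_pow htp hcop h1
      have h3 : Commute (a * (a * y)) b := hab.mul_left h2
      rwa [← mul_assoc, ha2, one_mul] at h3)
    have hsq := T.square ha hb hwD hne hab hopa hopb
    have e1 : a * b * w * (a * b) = s ^ k * a := by
      rw [hw, hsk]
      calc a * b * (a * t ^ k) * (a * b) = (a * b * a) * t ^ k * (a * b) := by group
        _ = b * t ^ k * (b * a) := by rw [hab.eq, mul_assoc b a a, ha2, mul_one]
        _ = _ := by group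
    have hD' : s ^ k * a ∈ D := e1 ▸ (by
      have := T.conj (a * b) w hwD
      rwa [show (a * b)⁻¹ = a * b from inv_eq_of_mul_eq_one_right ((T.commute_iff ha hb).mp hab)] at this)
    rw [e1] at hsq
    have h3 := (T.commute_iff hD' hwD).mp hsq.symm
    rw [hw, show s ^ k * a * (a * t ^ k) = s ^ k * (a * a) * t ^ k by group, ha2, mul_one] at h3
    exact h3
  have hvi : ∀ k, (v k)⁻¹ = v k := fun k => inv_eq_of_mul_eq_one_right (hv2 k)
  have hsv : ∀ i j, s ^ j * v i * (s ^ j)⁻¹ = v (i + j) * v j := by
    intro i j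
    conv_rhs => rw [← hvi j]
    simp only [v, mul_inv_rev]
    rw [add_comm i j, pow_add, pow_add]
    calc s ^ j * (s ^ i * t ^ i) * (s ^ j)⁻¹ = s ^ j * s ^ i * (t ^ i * (t ^ j * (t ^ j)⁻¹)) * (s ^ j)⁻¹ := by group
      _ = _ := by rw [← mul_assoc (t ^ i), (Commute.pow_pow (Commute.refl t) i j).eq]; group
  have hvc : ∀ i j, Commute (v i) (v j) := by
    have key : ∀ i j, Commute (v (i + j)) (v j) := fun i j => by
      have h1 : v (i + j) * v j * (v (i + j) * v j) = 1 := by
        rw [← hsv, show s ^ j * v i * (s ^ j)⁻¹ * (s ^ j * v i * (s ^ j)⁻¹) = s ^ j * (v i * v i) * (s ^ j)⁻¹ by group,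
          hv2, mul_one, mul_inv_cancel]
      show v (i + j) * v j = v j * v (i + j)
      rw [← inv_eq_of_mul_eq_one_right h1, mul_inv_rev, hvi, hvi]
    intro i j
    rcases le_total i j with h | h
    · have := key (j - i) i
      rw [Nat.sub_add_cancel h] at this
      exact this.symm
    · have := key (i - j) j
      rwa [Nat.sub_add_cancel h] at this
  set V := Subgroup.closure (Set.range v)
  have hvV : ∀ k, v k ∈ V := fun k => Subgroup.subset_closure ⟨k, rfl⟩
  have hcomm : ∀ x ∈ V, ∀ z ∈ V, Commute x z := by
    intro x hx z hz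
    induction hx, hz using Subgroup.closure_induction₂ with
    | mem x z hx hz => obtain ⟨i, rfl⟩ := hx; obtain ⟨j, rfl⟩ := hz; exact hvc i j
    | one_left x _ => exact Commute.one_left x
    | one_right x _ => exact Commute.one_right x
    | mul_left x y z _ _ _ h1 h2 => exact h1.mul_left h2
    | mul_right x y z _ _ _ h1 h2 => exact h1.mul_right h2
    | inv_left x z _ _ h => exact h.inv_left
    | inv_right x z _ _ h => exact h.inv_right
  have hsq : ∀ x ∈ V, x * x = 1 := by
    intro x hx
    induction hx using Subgroup.closure_induction with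
    | mem x hx => obtain ⟨i, rfl⟩ := hx; exact hv2 i
    | one => exact mul_one 1
    | mul x z hx hz h1 h2 =>
      calc x * z * (x * z) = x * (z * x) * z := by group
        _ = x * (x * z) * z := by rw [(hcomm z hz x hx).eq]
        _ = (x * x) * (z * z) := by group
        _ = 1 := by rw [h1, h2, one_mul]
    | inv x hx h => rw [← mul_inv_rev, h, inv_one]
  have hask : ∀ k, a * s ^ k * a = (s ^ k)⁻¹ := fun k => by
    rw [hsk, mul_inv_rev, mul_inv_rev, hbi]
    calc a * (b * t ^ k * b) * a = (a * b) * t ^ k * (b * a) := by group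
      _ = b * (a * t ^ k * a) * b := by rw [hab.eq]; nth_rewrite 2 [← hab.eq]; group
      _ = b * ((t ^ k)⁻¹ * b) := by rw [hatk]; group
  have hav : ∀ x ∈ V, a * x * a ∈ V := by
    intro x hx
    induction hx using Subgroup.closure_induction with
    | mem x hx =>
      obtain ⟨i, rfl⟩ := hx
      have : a * v i * a = v (i * (p - 1)) := by
        have hp1 : 1 ≤ p := T.prime.pos
        simp only [v]
        calc a * (s ^ i * t ^ i) * a = (a * s ^ i * a) * (a * t ^ i * a) := by
              rw [show (a * s ^ i * a) * (a * t ^ i * a) = a * s ^ i * (a * a) * t ^ i * a by group, ha2, mul_one]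
              group
          _ = (s ^ i)⁻¹ * (t ^ i)⁻¹ := by rw [hask, hatk]
          _ = _ := by
            congr 1
            · refine inv_eq_of_mul_eq_one_right ?_
              rw [← pow_add, show i + i * (p - 1) = p * i by
                obtain ⟨r, rfl⟩ : ∃ r, p = r + 1 := ⟨p - 1, by omega⟩
                simp; ring, pow_mul, hsp, one_pow]
            · refine inv_eq_of_mul_eq_one_right ?_
              rw [← pow_add, show i + i * (p - 1) = p * i by
                obtain ⟨r, rfl⟩ : ∃ r, p = r + 1 := ⟨p - 1, by omega⟩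
                simp; ring, pow_mul, htp, one_pow]
      exact this ▸ hvV _
    | one => rw [mul_one, ha2]; exact one_mem _
    | mul x z _ _ h1 h2 =>
      have := mul_mem h1 h2
      rwa [show a * x * a * (a * z * a) = a * x * (a * a) * z * a by group, ha2, mul_one,
        show a * x * z * a = a * (x * z) * a by group] at this
    | inv x _ h =>
      have := inv_mem h
      rwa [mul_inv_rev, mul_inv_rev, hai, ← mul_assoc] at this
  set u := a * b with hu
  have hu2 : u * u = 1 := (T.commute_iff ha hb).mp hab
  have hua : Commute u a := (Commute.refl a).mul_left hab.symm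
  have hus : ∀ k, b * s ^ k * b = t ^ k := fun k => by
    rw [hsk, show b * (b * t ^ k * b) * b = (b * b) * t ^ k * (b * b) by group, hb2, one_mul, mul_one]
  have huv : ∀ x ∈ V, Commute u x := by
    have hgen : Set.range v ⊆ (Subgroup.centralizer {u} : Set G) := by
      rintro _ ⟨i, rfl⟩
      rw [SetLike.mem_coe, Subgroup.mem_centralizer_singleton_iff]
      have h1 : u * v i * u = v i := by
        calc u * v i * u = b * (a * v i * a) * b := by
              rw [hu, show a * b * v i * (a * b) = (a * b) * v i * (a * b) from rfl]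
              nth_rewrite 1 [hab.eq]
              group
          _ = b * ((s ^ i)⁻¹ * (t ^ i)⁻¹) * b := by
              simp only [v]
              rw [show a * (s ^ i * t ^ i) * a = a * s ^ i * (a * a) * t ^ i * a by rw [ha2, mul_one]; group,
                show a * s ^ i * (a * a) * t ^ i * a = (a * s ^ i * a) * (a * t ^ i * a) by group, hask, hatk]
          _ = (b * s ^ i * b)⁻¹ * (b * t ^ i * b)⁻¹ := by
              simp only [mul_inv_rev, hbi]
              rw [show b * ((s ^ i)⁻¹ * b) * (b * ((t ^ i)⁻¹ * b)) = b * (s ^ i)⁻¹ * (b * b) * (t ^ i)⁻¹ * b by group,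
                hb2, mul_one]
              group
          _ = (v i)⁻¹ := by rw [hus, ← hsk]; simp only [v, mul_inv_rev]
          _ = v i := hvi i
      calc v i * u = u * v i * u * u := by rw [h1]
        _ = u * v i := by rw [mul_assoc, hu2, mul_one]
    intro x hx
    exact (Subgroup.mem_centralizer_singleton_iff.mp ((Subgroup.closure_le _).mpr hgen hx)).symm
  -- some commutator with `a` lies outside `⟨u⟩`
  obtain ⟨x, hx, hx1, hxu⟩ : ∃ x ∈ V, x * (a * x * a) ≠ 1 ∧ x * (a * x * a) ≠ u := by
    by_contra hall
    push Not at hall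
    set f : G → G := fun x => x * (a * x * a) with hf
    have hfW : ∀ x ∈ V, f x = 1 ∨ f x = u := fun x hx => by
      by_cases e : f x = 1
      · exact Or.inl e
      · exact Or.inr (hall x hx e)
    have hsV : ∀ x ∈ V, s * x * s⁻¹ ∈ V := by
      intro x hx
      induction hx using Subgroup.closure_induction with
      | mem x hx =>
        obtain ⟨i, rfl⟩ := hx
        have := hsv i 1
        rw [pow_one] at this
        rw [this]; exact mul_mem (hvV _) (hvV _)
      | one => simp
      | mul x z _ _ h1 h2 => simpa [mul_assoc] using mul_mem h1 h2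
      | inv x _ h => simpa [mul_assoc] using inv_mem h
    have has : a * s * a = s⁻¹ := by simpa using hask 1
    let δ : G → G := fun x => s * (s * x * s⁻¹) * s⁻¹ * x
    set σ : G → G := fun x => s * x * s⁻¹ with hσ
    have hW : ∀ x ∈ V, δ x ∈ ({1, u, σ u, σ u * u} : Finset G) := by
      intro x hx
      have hy1 := hsV x hx
      have e : δ x = σ (f (s * x * s⁻¹)) * f x := by
        have e1 : a * (s * x * s⁻¹) * a = s⁻¹ * (a * x * a) * s := by
          have has' : a * s⁻¹ * a = s := by
            rw [← has, show a * (a * s * a) * a = (a * a) * s * (a * a) by group, ha2, one_mul, mul_one]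
          calc a * (s * x * s⁻¹) * a = a * s * (a * a) * x * (a * a) * s⁻¹ * a := by rw [ha2, mul_one, mul_one]; group
            _ = (a * s * a) * (a * x * a) * (a * s⁻¹ * a) := by group
            _ = _ := by rw [has, has']
        simp only [δ, σ, hf]
        rw [e1]
        calc s * (s * x * s⁻¹) * s⁻¹ * x = s * (s * x * s⁻¹) * s⁻¹ * ((a * x * a) * (a * x * a)) * x := by
              rw [show (a * x * a) * (a * x * a) = a * (x * (a * a) * x) * a by group, ha2, mul_one, hsq x hx, mul_one,
                ha2, mul_one]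
          _ = s * (s * x * s⁻¹ * (s⁻¹ * (a * x * a) * s)) * s⁻¹ * ((a * x * a) * x) := by group
          _ = _ := by rw [(hcomm _ (hav x hx) x hx).eq]
      rw [e]
      rcases hfW _ hy1 with e1 | e1 <;> rcases hfW x hx with e2 | e2 <;> rw [e1, e2] <;> simp [σ]
    -- the image of `δ` is fixed by `s`
    have hfix : ∀ x ∈ V, σ (δ x) = δ x := by
      intro x hx
      have hmem : ∀ k : ℕ, s ^ k * δ x * (s ^ k)⁻¹ ∈ ({1, u, σ u, σ u * u} : Finset G) := by
        intro k
        have hk : s ^ k * x * (s ^ k)⁻¹ ∈ V := by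
          induction k with
          | zero => simpa using hx
          | succ k ih =>
            have := hsV _ ih
            rwa [show s * (s ^ k * x * (s ^ k)⁻¹) * s⁻¹ = s ^ (k + 1) * x * (s ^ (k + 1))⁻¹ by
              rw [pow_succ']; group] at this
        have := hW _ hk
        rwa [show δ (s ^ k * x * (s ^ k)⁻¹) = s ^ k * δ x * (s ^ k)⁻¹ by
          have hks : s * s ^ k = s ^ k * s := (Commute.self_pow s k).eq
          simp only [δ]
          calc s * (s * (s ^ k * x * (s ^ k)⁻¹) * s⁻¹) * s⁻¹ * (s ^ k * x * (s ^ k)⁻¹)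
              = (s * (s * s ^ k)) * x * ((s * (s * s ^ k)))⁻¹ * (s ^ k * x * (s ^ k)⁻¹) := by group
            _ = (s ^ k * (s * s)) * x * ((s ^ k * (s * s)))⁻¹ * (s ^ k * x * (s ^ k)⁻¹) := by
                rw [show s * (s * s ^ k) = s ^ k * (s * s) by rw [hks, ← mul_assoc, hks, mul_assoc]]
            _ = _ := by group] at this
      obtain ⟨i, hi, j, hj, hij, e⟩ := Finset.exists_ne_map_eq_of_card_lt_of_maps_to
        (s := Finset.range 5) (f := fun k => s ^ k * δ x * (s ^ k)⁻¹) (t := ({1, u, σ u, σ u * u} : Finset G))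
        (lt_of_le_of_lt Finset.card_le_four (by simp)) (fun k _ => hmem k)
      simp only [Finset.mem_range] at hi hj
      have key : ∀ i j : ℕ, i < j → j < 5 → s ^ i * δ x * (s ^ i)⁻¹ = s ^ j * δ x * (s ^ j)⁻¹ →
          Commute (s ^ (j - i)) (δ x) := by
        intro i j hlt _ e
        obtain ⟨d, rfl⟩ : ∃ d, j = i + d := ⟨j - i, by omega⟩
        rw [Nat.add_sub_cancel_left, commute_iff_eq]
        have h := congrArg (fun z => (s ^ i)⁻¹ * z * (s ^ i * s ^ d)) e
        simp only [pow_add, mul_inv_rev] at h
        simpa [mul_assoc] using h.symm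
      obtain ⟨d, hd0, hd5, hc⟩ : ∃ d, 0 < d ∧ d < 5 ∧ Commute (s ^ d) (δ x) := by
        rcases lt_or_gt_of_ne hij with h | h
        · exact ⟨j - i, by omega, by omega, key i j h hj e⟩
        · exact ⟨i - j, by omega, by omega, key j i h hi e.symm⟩
      have hcop : Nat.Coprime d p := (T.prime.coprime_iff_not_dvd.mpr fun hd => by
        have := Nat.le_of_dvd hd0 hd; have := T.five; omega).symm
      show s * δ x * s⁻¹ = δ x
      rw [(Two.commute_of_pow hsp hcop hc).eq, mul_inv_cancel_right]
    have hσV : ∀ x ∈ V, σ x = x := by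
      intro x hx
      have hδV : δ x ∈ V := mul_mem (hsV _ (hsV _ hx)) hx
      have hs2 : ∀ n : ℕ, s ^ (2 * n) * x * (s ^ (2 * n))⁻¹ = x * δ x ^ n := by
        intro n
        induction n with
        | zero => simp
        | succ n ih =>
          have hcs : Commute s (δ x) := mul_inv_eq_iff_eq_mul.mp (hfix x hx)
          have h2 : s * (s * x * s⁻¹) * s⁻¹ = δ x * x := by
            simp only [δ]; rw [mul_assoc _ x x, hsq x hx, mul_one]
          rw [show 2 * (n + 1) = 2 + 2 * n by ring, pow_add, pow_two,
            show s * s * s ^ (2 * n) * x * (s * s * s ^ (2 * n))⁻¹ =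
              s * s * (s ^ (2 * n) * x * (s ^ (2 * n))⁻¹) * (s * s)⁻¹ by group, ih]
          calc s * s * (x * δ x ^ n) * (s * s)⁻¹ = (s * (s * x * s⁻¹) * s⁻¹) * ((s * s) * δ x ^ n * (s * s)⁻¹) := by group
            _ = (δ x * x) * δ x ^ n := by rw [h2, ((hcs.mul_left hcs).pow_right n).eq, mul_inv_cancel_right]
            _ = x * δ x ^ (n + 1) := by rw [(hcomm _ hδV x hx).eq, mul_assoc, pow_succ']
      have h1 := hs2 p
      rw [show 2 * p = p * 2 by ring, pow_mul, hsp, one_pow, one_mul, inv_one, mul_one] at h1
      have hδp : δ x ^ p = δ x := by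
        rw [hl, pow_succ, pow_mul, pow_two, hsq _ hδV, one_pow, one_mul]
      rw [hδp] at h1
      have h2 : Commute (s ^ 2) x := by
        have := hs2 1
        rw [mul_one, pow_one, ← h1] at this
        exact mul_inv_eq_iff_eq_mul.mp this
      show s * x * s⁻¹ = x
      rw [(Two.commute_of_pow hsp (Nat.coprime_two_left.mpr T.odd_p) h2).eq, mul_inv_cancel_right]
    -- then `b` inverts `t`
    have hv11 : v 2 * v 1 = v 1 := by
      have := hsv 1 1
      rw [pow_one] at this
      rw [← this]
      exact hσV _ (hvV 1)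
    have hv20 : v 2 = 1 := mul_eq_right.mp hv11
    have hst : s * t = 1 := by
      have h1 : s ^ 2 = (t⁻¹) ^ 2 := by rw [inv_pow]; exact eq_inv_of_mul_eq_one_left hv20
      have hto : Odd (orderOf t) := T.odd_p.of_dvd_nat (orderOf_dvd_of_pow_eq_one htp)
      have hso : Odd (orderOf s) := T.odd_p.of_dvd_nat (orderOf_dvd_of_pow_eq_one hsp)
      rw [CfsgThreeTrans.eq_of_sq_eq_of_odd hso (by rw [orderOf_inv]; exact hto) h1, inv_mul_cancel]
    have hut : Commute u t := by
      have hs' : b * t * b = t⁻¹ := hs ▸ eq_inv_of_mul_eq_one_left hst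
      have h1 : u * t * u = t := by
        calc u * t * u = a * (b * t * b) * a := by
              rw [hu]; nth_rewrite 2 [hab.eq]; group
          _ = a * t⁻¹ * a := by rw [hs']
          _ = (a * t * a)⁻¹ := by simp only [mul_inv_rev, hai, mul_assoc]
          _ = t := by rw [hat, inv_inv]
      show u * t = t * u
      calc u * t = u * t * u * u := by rw [mul_assoc (u * t), hu2, mul_one]
        _ = t * u := by rw [h1]
    refine hya (T.translate ha hb hne hab hy ?_).1
    have : Commute u (a * t) := hua.mul_right hut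
    rwa [ht, ← mul_assoc, ha2, one_mul] at this
  have hxi : x⁻¹ = x := inv_eq_of_mul_eq_one_right (hsq x hx)
  set φ := x * (a * x * a) with hφ
  have hφV : φ ∈ V := mul_mem hx (hav x hx)
  have hac : Commute a φ := by
    show a * φ = φ * a
    rw [hφ]
    calc a * (x * (a * x * a)) = (a * x * a) * x * a := by group
      _ = x * (a * x * a) * a := by rw [(hcomm _ (hav x hx) x hx).eq]
  have hcx : x * a * x = a * φ := by
    rw [hφ, ← mul_assoc a x, show a * x * (a * x * a) = (a * x * a) * x * a by group, (hcomm _ (hav x hx) x hx).eq]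
    calc x * a * x = x * a * x * (a * a) := by rw [ha2, mul_one]
      _ = x * (a * x * a) * a := by group
  refine ⟨a * φ, ?_, ?_, ?_, ?_, (Commute.refl a).mul_right hac, ?_⟩
  · rw [← hcx]; simpa [hxi] using T.conj x a ha
  · have h1 := T.conj x b hb
    rw [hxi] at h1
    convert h1 using 1
    have hbu : b = a * u := by rw [hu, ← mul_assoc, ha2, one_mul]
    calc a * b * (a * φ) = u * (x * a * x) := by rw [hcx]
      _ = (u * x) * a * x := by group
      _ = x * (u * a) * x := by rw [(huv x hx).eq]; group
      _ = x * b * x := by rw [hua.eq, ← hbu]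
  · exact fun e => hx1 (left_eq_mul.mp e)
  · intro e
    refine hxu ?_
    calc φ = a * (a * φ) := by rw [← mul_assoc, ha2, one_mul]
      _ = u := by rw [← e]
  · have hbu : b = a * u := by rw [hu, ← mul_assoc, ha2, one_mul]
    rw [hbu]
    exact ((Commute.refl a).mul_right hac).mul_left (hua.mul_right (huv φ hφV))

/-- **Commuting members with a common opposite are twins.** -/
theorem Two.twins (T : Two D p) {a b y : G} (ha : a ∈ D) (hb : b ∈ D) (hy : y ∈ D) (hne : a ≠ b) (hab : Commute a b)
    (hya : ¬ Commute y a) (hyb : ¬ Commute y b) {z : G} (hz : z ∈ D) : Commute z a ↔ Commute z b := by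
  obtain ⟨c, hc, hd, hac', hbc', hac, hbc⟩ := T.exists_four ha hb hy hne hab hya hyb
  exact ⟨T.four ha hb hc hd hne hac' hbc' hab hac hbc hz,
    T.four hb ha hc (hab.eq ▸ hd) hne.symm hbc' hac' hab.symm hbc hac hz⟩

end CfsgLib.RankThreeTrans
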