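import Cfsg.Agent.Lib.RankThreeTrans.Models
import Cfsg.Agent.S5051
import Cfsg.Agent.S0208

/-!
No line: two commuting members whose product is a member have no opposite common to both.
-/

set_option autoImplicit false
set_option linter.unusedSectionVars false

namespace CfsgLib.RankThreeTrans

open Cfsg

universe u

variable {G : Type u} [Group G] [Finite G] {D : Set G} {p : ℕ}

theorem Two.isOddTransposition (T : Two D p) (hgen : Subgroup.closure D = ⊤) : IsOddTranspositionSet D := by
  refine ⟨⟨T.inv, hgen, fun d hd g => T.conj g d hd, fun a ha b hb => ?_⟩, fun a ha b hb h4 => ?_⟩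
  · by_cases h : Commute a b
    · exact Or.inl h
    · exact Or.inr (Or.inl (T.order_of_not ha hb h ▸ T.odd_p))
  · by_cases he : a = b
    · subst he; rw [T.sq ha, orderOf_one] at h4; omega
    · rcases T.pair a ha b hb he with e | e <;> have := T.five <;> rw [e] at h4
      · omega
      · have h := T.odd_p; rw [h4] at h; exact absurd h (by decide)

/-- A member commuting with two of `a, b, a b` commutes with all. -/
theorem Two.line_twin (T : Two D p) {a b z : G} (ha : a ∈ D) (hb : b ∈ D) (hab : Commute a b) (hline : a * b ∈ D)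
    (hz : z ∈ D) (h : Commute z a) : Commute z b := by
  have hbz : Commute (b * (a * b)) z := by
    rw [show b * (a * b) = (b * a) * b by group, ← hab.eq, mul_assoc, T.sq hb, mul_one]
    exact h.symm
  have hne : b ≠ a * b := fun e => T.ne_one ha (by simpa using e.symm)
  exact (T.translate hb hline hne (hab.symm.mul_right (Commute.refl b)) hz hbz).1

theorem Two.no_line_gen (T : Two D p) {a b y : G} (ha : a ∈ D) (hb : b ∈ D) (hy : y ∈ D) (hab : Commute a b)
    (hline : a * b ∈ D) (hya : ¬ Commute y a) (hyb : ¬ Commute y b)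
    (hgen : Subgroup.closure ({a, b, y} : Set G) = ⊤) : False := by
  classical
  have hD : Subgroup.closure D = ⊤ := eq_top_iff.mpr (hgen ▸ Subgroup.closure_mono (by
    rintro z (rfl | rfl | rfl) <;> assumption))
  have htw : b ∈ sameCommutingClass D a := by
    refine ⟨hb, Set.ext fun z => ⟨fun hz => ⟨hz.1, T.line_twin ha hb hab hline hz.1 hz.2⟩, fun hz => ⟨hz.1, ?_⟩⟩⟩
    exact T.line_twin hb ha hab.symm (hab.eq ▸ hline) hz.1 hz.2
  set X := Subgroup.closure (sameCommutingClass D a ∪ {y})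
  have hX : X = ⊤ := eq_top_iff.mpr (hgen ▸ Subgroup.closure_mono (by
    rintro z (rfl | rfl | rfl)
    · exact Or.inl ⟨ha, rfl⟩
    · exact Or.inl htw
    · exact Or.inr rfl))
  haveI : (pCore 2 X).Normal := Subgroup.sSup_normal _ (fun _ h => h.1)
  let f : G →* X ⧸ pCore 2 X :=
    (QuotientGroup.mk' _).comp ((MonoidHom.id G).codRestrict X fun g => hX ▸ Subgroup.mem_top g)
  have hf : Function.Surjective f := fun r => by
    obtain ⟨⟨g, hg⟩, rfl⟩ := QuotientGroup.mk'_surjective _ r
    exact ⟨g, rfl⟩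
  have hker : ∀ g : G, orderOf g = p → f g ≠ 1 := by
    intro g hg h1
    obtain ⟨j, hj⟩ := (CfsgLib.isPGroup_pCore (G := X) 2) ⟨_, (QuotientGroup.eq_one_iff _).mp h1⟩
    have h2 : g ^ (2 ^ j) = 1 := by
      have := congrArg (fun z : pCore 2 X => ((z : X) : G)) hj
      simpa using this
    have h3 := Nat.Coprime.eq_one_of_dvd ((Nat.coprime_two_right.mpr T.odd_p).pow_right j)
      (hg ▸ orderOf_dvd_of_pow_eq_one h2)
    have := T.five
    omega
  have T' := T.map f hf
  have hopp : ∀ d ∈ D, ¬ Commute y d → ¬ Commute (f y) (f d) ∧ f d ≠ 1 ∧ f y ≠ 1 ∧ IsConj (f y) (f d) := by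
    intro d hd hyd
    have ho := T.order_of_not hy hd hyd
    have hc : ¬ Commute (f y) (f d) := fun hc => by
      have h1 : f (y * d) * f (y * d) = 1 := by
        rw [← pow_two, map_mul, hc.mul_pow, ← map_pow, ← map_pow, pow_two, pow_two, T.sq hy, T.sq hd, map_one, one_mul]
      rw [← map_mul, ← pow_two] at h1
      refine hker _ ?_ h1
      rw [Nat.Coprime.orderOf_pow (by rw [ho]; exact Nat.coprime_two_right.mpr T.odd_p), ho]
    refine ⟨hc, fun e => hc (e ▸ Commute.one_right _), fun e => hc (e ▸ Commute.one_left _), ?_⟩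
    obtain ⟨g, -, hg⟩ := Cfsg.Agent.S0208.result y d (T.inv y hy) (T.inv d hd) (ho ▸ T.odd_p)
    exact isConj_iff.mpr ⟨f g, by rw [← map_mul, ← map_inv, ← map_mul, hg]⟩
  have hyc : ¬ Commute y (a * b) := fun h => hyb (by
    have := T.line_twin hline ha (((Commute.refl a).mul_left hab.symm)) (by
      rw [hab.eq, mul_assoc, T.sq ha, mul_one]; exact hb) hy h
    exact T.line_twin ha hb hab hline hy this)
  obtain ⟨hfya, hfa1, hfy1, hca⟩ := hopp a ha hya
  obtain ⟨-, -, -, hcb⟩ := hopp b hb hyb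
  obtain ⟨-, -, -, hcc⟩ := hopp _ hline hyc
  have hyD : f y ∈ f '' D \ {1} := ⟨⟨y, hy, rfl⟩, hfy1⟩
  rcases Cfsg.Agent.S5051.result (T.isOddTransposition hD) ha ⟨hy, fun e => hya (e ▸ Commute.refl y), by
    rw [T.order_of_not ha hy (fun h => hya h.symm)]; exact T.odd_p⟩ with
    ⟨F, i1, i2, i3, -, ⟨e⟩⟩ | ⟨F, i1, i2, m, hm, hF, ⟨e⟩⟩ | ⟨n, ⟨e⟩⟩
  · exact no_psl2 (T'.equiv e) (s := e (f y)) ⟨⟨_, hyD, rfl⟩, fun h => hfy1 (e.injective (h.trans (map_one e).symm))⟩
  · let e' := e.trans (CfsgLib.Suzuki.lieEquiv hF hm).symm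
    exact no_sz hF hm (T'.equiv e') (s := e' (f y))
      ⟨⟨_, hyD, rfl⟩, fun h => hfy1 (e'.injective (h.trans (map_one e').symm))⟩
  · refine no_dihedral (a := e (f a)) (b := e (f b)) (y := e (f y)) ((hab.map f).map e)
      (fun h => hfya ?_) (e.toMonoidHom.map_isConj hca) (e.toMonoidHom.map_isConj hcb) ?_
    · have := h.map e.symm
      simpa using this
    · rw [← map_mul, ← map_mul]
      exact e.toMonoidHom.map_isConj hcc

theorem Two.no_line (T : Two D p) {a b y : G} (ha : a ∈ D) (hb : b ∈ D) (hy : y ∈ D) (hab : Commute a b)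
    (hline : a * b ∈ D) (hya : ¬ Commute y a) (hyb : ¬ Commute y b) : False := by
  set H := Subgroup.closure ({a, b, y} : Set G)
  refine (T.sub H).no_line_gen (a := ⟨a, Subgroup.subset_closure (by simp)⟩) (b := ⟨b, Subgroup.subset_closure (by simp)⟩)
    (y := ⟨y, Subgroup.subset_closure (by simp)⟩) ha hb hy (Subtype.ext hab) hline
    (fun h => hya (congrArg Subtype.val h)) (fun h => hyb (congrArg Subtype.val h)) ?_
  rw [eq_top_iff]
  rintro ⟨g, hg⟩ -
  induction hg using Subgroup.closure_induction with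
  | mem z hz =>
    apply Subgroup.subset_closure
    rcases hz with rfl | rfl | rfl <;> simp
  | one => exact one_mem _
  | mul z w hz hw h1 h2 =>
    rw [show (⟨z * w, mul_mem hz hw⟩ : H) = ⟨z, hz⟩ * ⟨w, hw⟩ from rfl]; exact mul_mem h1 h2
  | inv z hz h1 => rw [show (⟨z⁻¹, inv_mem hz⟩ : H) = (⟨z, hz⟩ : H)⁻¹ from rfl]; exact inv_mem h1

end CfsgLib.RankThreeTrans
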