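import Cfsg.Agent.Lib.RankThreeTrans.Cliques
import Cfsg.Agent.S0200
import Cfsg.Agent.S0205
import Cfsg.Agent.S0215
import Cfsg.Prelude.Def_SporadicB

/-!
A class of involutions on which the group has rank three consists of 3-transpositions.
-/

set_option autoImplicit false
set_option linter.unusedSectionVars false

namespace CfsgLib.RankThreeTrans

universe u

variable {G : Type u} [Group G] [Finite G] {D : Set G}

theorem exists_orders {x y z : G} (hx : x * x = 1)
    (h : D = {w : G | ∃ g : G, Commute g x ∧ g * x * g⁻¹ = w} ∪ {w : G | ∃ g : G, Commute g x ∧ g * y * g⁻¹ = w} ∪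
      {w : G | ∃ g : G, Commute g x ∧ g * z * g⁻¹ = w}) :
    ∀ w ∈ D, w ≠ x → orderOf (x * w) = orderOf (x * y) ∨ orderOf (x * w) = orderOf (x * z) := by
  have key : ∀ g y : G, Commute g x → orderOf (x * (g * y * g⁻¹)) = orderOf (x * y) := by
    intro g y hg
    have : x * (g * y * g⁻¹) = MulAut.conj g (x * y) := by
      rw [MulAut.conj_apply, ← mul_assoc, ← mul_assoc, ← hg.eq]; group
    rw [this]
    exact MulEquiv.orderOf_eq _ _
  intro w hw hne
  rw [h] at hw
  rcases hw with (⟨g, hg, rfl⟩ | ⟨g, hg, rfl⟩) | ⟨g, hg, rfl⟩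
  · exact absurd (by rw [hg.eq, mul_inv_cancel_right]) hne
  · exact Or.inl (key g y hg)
  · exact Or.inr (key g z hg)

/-- With trivial solvable radical a class of involutions generating the group has non-commuting members. -/
theorem not_all_commute (hsol : ∀ N : Subgroup G, N.Normal → Group.IsSolvable N → N = ⊥) {x : G} (hx : x ∈ D)
    (hx1 : x ≠ 1) (hgen : Subgroup.closure D = ⊤) : ¬ ∀ a ∈ D, ∀ b ∈ D, Commute a b := by
  intro hc
  have hle : Subgroup.closure D ≤ Subgroup.centralizer D :=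
    (Subgroup.closure_le _).mpr fun a ha => Subgroup.mem_centralizer_iff.mpr fun b hb => (hc b hb a ha).eq
  rw [hgen] at hle
  have hcent : ∀ g h : G, Commute g h := fun g h => by
    have h1 : h ∈ Subgroup.centralizer ((Subgroup.closure D : Subgroup G) : Set G) := by
      rw [Subgroup.centralizer_closure]
      exact hle (Subgroup.mem_top h)
    exact Subgroup.mem_centralizer_iff.mp h1 g (hgen ▸ Subgroup.mem_top g)
  have := hsol ⊤ inferInstance (Group.isSolvable_of_comm fun g h => Subtype.ext (hcent g h).eq)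
  exact hx1 (Subgroup.mem_bot.mp (this ▸ Subgroup.mem_top x))

theorem three_transpositions (hsol : ∀ N : Subgroup G, N.Normal → Group.IsSolvable N → N = ⊥)
    (hinv : ∀ d ∈ D, orderOf d = 2) (hconj : ∃ d ∈ D, D = conjugatesOf d) (hgen : Subgroup.closure D = ⊤)
    (hrank : ∀ x ∈ D, ∃ y z : G, D = {w : G | ∃ g : G, Commute g x ∧ g * x * g⁻¹ = w} ∪
      {w : G | ∃ g : G, Commute g x ∧ g * y * g⁻¹ = w} ∪ {w : G | ∃ g : G, Commute g x ∧ g * z * g⁻¹ = w}) :
    Cfsg.IsThreeTranspositionClass D := by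
  classical
  obtain ⟨x, hx, hD⟩ := hconj
  have hmem : ∀ w, w ∈ D ↔ ∃ g : G, g * x * g⁻¹ = w := fun w => by
    rw [hD]; exact isConj_iff
  have hcl : ∀ g : G, ∀ w ∈ D, g * w * g⁻¹ ∈ D := fun g w hw => by
    obtain ⟨k, rfl⟩ := (hmem w).mp hw
    exact (hmem _).mpr ⟨g * k, by group⟩
  have hclass : ∀ a ∈ D, ∀ b ∈ D, ∃ g : G, b = g * a * g⁻¹ := fun a ha b hb => by
    obtain ⟨k, rfl⟩ := (hmem a).mp ha
    obtain ⟨l, rfl⟩ := (hmem b).mp hb
    exact ⟨l * k⁻¹, by group⟩
  have hsq : ∀ a ∈ D, a * a = 1 := fun a ha => by rw [← pow_two, ← hinv a ha, pow_orderOf_eq_one]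
  have hx1 : x ≠ 1 := fun e => by simpa [e] using hinv x hx
  obtain ⟨y, z, hyz⟩ := hrank x hx
  set m₁ := orderOf (x * y)
  set m₂ := orderOf (x * z)
  have hxord := exists_orders (hsq x hx) hyz
  have hord : ∀ a ∈ D, ∀ b ∈ D, a ≠ b → orderOf (a * b) = m₁ ∨ orderOf (a * b) = m₂ := by
    intro a ha b hb hne
    obtain ⟨g, rfl⟩ := (hmem a).mp ha
    have h1 := hxord _ (hcl g⁻¹ b hb) fun e => hne (by
      calc g * x * g⁻¹ = g * (g⁻¹ * b * g⁻¹⁻¹) * g⁻¹ := by rw [e]
        _ = b := by group)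
    have e : g * x * g⁻¹ * b = MulAut.conj g (x * (g⁻¹ * b * g⁻¹⁻¹)) := by rw [MulAut.conj_apply]; group
    rw [e, MulEquiv.orderOf_eq]
    exact h1
  have hcomm : ∀ a ∈ D, ∀ b ∈ D, orderOf (a * b) ∣ 2 → Commute a b := by
    intro a ha b hb h
    have h1 : (a * b) * (a * b) = 1 := by rw [← pow_two]; exact orderOf_dvd_iff_pow_eq_one.mp h
    show a * b = b * a
    rw [← inv_eq_of_mul_eq_one_right h1, mul_inv_rev, inv_eq_of_mul_eq_one_right (hsq a ha),
      inv_eq_of_mul_eq_one_right (hsq b hb)]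
  have hcomm' : ∀ a ∈ D, ∀ b ∈ D, a ≠ b → Commute a b → orderOf (a * b) = 2 := by
    intro a ha b hb hne h
    refine orderOf_eq_prime (by rw [pow_two, ← pow_two, h.mul_pow, pow_two, pow_two, hsq a ha, hsq b hb, one_mul])
      fun e => hne ?_
    rw [mul_eq_one_iff_eq_inv.mp e, inv_eq_of_mul_eq_one_right (hsq b hb)]
  -- a member times a conjugate of itself in a dihedral group
  have hpow : ∀ a ∈ D, ∀ b ∈ D, ∀ j : ℕ, ∃ c ∈ D, a * c = (a * b) ^ (2 * j) := by
    intro a ha b hb j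
    refine ⟨((a * b) ^ j)⁻¹ * a * (a * b) ^ j, by simpa using hcl ((a * b) ^ j)⁻¹ a ha, ?_⟩
    rw [CfsgThreeTrans.conj_pow_mul (hsq a ha) (hsq b hb), ← mul_assoc, hsq a ha, one_mul]
  -- two different members commute
  obtain ⟨a₀, ha₀, b₀, hb₀, hne₀, hc₀⟩ : ∃ a ∈ D, ∃ b ∈ D, a ≠ b ∧ Commute a b := by
    by_contra hno
    push Not at hno
    haveI : Fact (Nat.Prime 2) := ⟨Nat.prime_two⟩
    obtain ⟨P, hP⟩ := (show IsPGroup 2 (Subgroup.zpowers x) from
      IsPGroup.of_card (n := 1) (by rw [Nat.card_zpowers, hinv x hx, pow_one])).exists_le_sylow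
    have hxP : x ∈ (P : Subgroup G) := hP (Subgroup.mem_zpowers x)
    have hiso : ∀ g : G, g * x * g⁻¹ ∈ P → g * x * g⁻¹ = x := by
      intro g hgP
      by_contra hne
      set w := g * x * g⁻¹
      have hw : w ∈ D := (hmem _).mpr ⟨g, rfl⟩
      obtain ⟨j, hj⟩ : ∃ j, orderOf (x * w) = 2 ^ j := by
        obtain ⟨k, hk⟩ := P.2 ⟨x * w, mul_mem hxP hgP⟩
        obtain ⟨j, -, hj⟩ := (Nat.dvd_prime_pow Nat.prime_two).mp
          (orderOf_dvd_of_pow_eq_one (congrArg Subtype.val hk : (x * w) ^ 2 ^ k = 1))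
        exact ⟨j, hj⟩
      have hnc := hno x hx w hw (Ne.symm hne)
      match j with
      | 0 => exact hnc (hcomm x hx w hw (by rw [hj]; norm_num))
      | 1 => exact hnc (hcomm x hx w hw (by rw [hj]; norm_num))
      | i + 2 =>
        obtain ⟨c, hc, e⟩ := hpow x hx w hw (2 ^ i)
        have h2 : orderOf ((x * w) ^ (2 * 2 ^ i)) = 2 := by
          rw [orderOf_pow' _ (by positivity), hj, Nat.gcd_eq_right ⟨2, by ring⟩,
            show (2 : ℕ) ^ (i + 2) = 2 * (2 * 2 ^ i) by ring, Nat.mul_div_cancel _ (by positivity)]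
        refine hno x hx c hc ?_ (hcomm x hx c hc (by rw [e, h2]))
        rintro rfl
        rw [← e, hsq x hx, orderOf_one] at h2
        omega
    obtain ⟨N, hN, hodd, hcomN⟩ := Cfsg.Agent.S0215.result P x (hinv x hx) hxP hiso
    have hN1 := hsol N hN (Cfsg.Agent.S0205.result hodd)
    have hcent : ∀ g : G, g * x * g⁻¹ = x := fun g => by
      have h1 := hcomN g
      rw [hN1, Subgroup.mem_bot, mul_inv_eq_one, mul_inv_eq_iff_eq_mul] at h1
      rw [mul_inv_eq_iff_eq_mul, h1]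
    refine not_all_commute hsol hx hx1 hgen fun a ha b hb => ?_
    obtain ⟨g, rfl⟩ := (hmem a).mp ha
    obtain ⟨k, rfl⟩ := (hmem b).mp hb
    rw [hcent, hcent]
  have h2m : m₁ = 2 ∨ m₂ = 2 := by
    have := hcomm' _ ha₀ _ hb₀ hne₀ hc₀
    rcases hord _ ha₀ _ hb₀ hne₀ with e | e <;> rw [this] at e
    exacts [Or.inl e.symm, Or.inr e.symm]
  -- the other order
  obtain ⟨a, ha, b, hb, hab⟩ : ∃ a ∈ D, ∃ b ∈ D, ¬ Commute a b := by
    have := not_all_commute hsol hx hx1 hgen
    push Not at this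
    exact this
  set m := orderOf (a * b) with hm
  have hne : a ≠ b := fun e => hab (e ▸ Commute.refl a)
  have hm2 : ¬ m ∣ 2 := fun h => hab (hcomm a ha b hb h)
  have hpair : ∀ c ∈ D, ∀ d ∈ D, c ≠ d → orderOf (c * d) = 2 ∨ orderOf (c * d) = m := by
    intro c hc d hd hcd
    have hm' := hord a ha b hb hne
    rcases hord c hc d hd hcd with e | e <;> rcases hm' with e' | e' <;> rcases h2m with e'' | e'' <;>
      first
        | (left; omega)
        | (right; omega)
        | (exfalso; apply hm2; rw [hm, e', e''])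
  have hm0 : 0 < m := orderOf_pos _
  have hm3 : 3 ≤ m := by
    by_contra h
    push Not at h
    interval_cases m
    · exact hm2 (one_dvd 2)
    · exact hm2 dvd_rfl
  rcases Nat.even_or_odd m with ⟨k, hk⟩ | hodd
  · -- products of order four: a normal 2-subgroup
    exfalso
    have h4 : m = 4 := by
      obtain ⟨c, hc, e⟩ := hpow a ha b hb 1
      have ho : orderOf (a * c) = k := by
        rw [e, mul_one, orderOf_pow' _ two_ne_zero, ← hm, hk, Nat.gcd_eq_right ⟨k, by ring⟩]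
        omega
      rcases hpair a ha c hc (fun e' => by rw [← e', hsq a ha, orderOf_one] at ho; omega) with h | h <;>
        rw [ho] at h <;> omega
    by_cases hN : ∀ N : Subgroup G, N.Normal → IsPGroup 2 N → x ∉ N
    · obtain ⟨h, h1, hho, hinvh⟩ := Cfsg.Agent.S0200.result x (hinv x hx) hN
      have e : x * (h * x * h⁻¹) = (h ^ 2)⁻¹ := by
        calc x * (h * x * h⁻¹) = (x * h * x⁻¹) * (x * x) * h⁻¹ := by group
          _ = (h ^ 2)⁻¹ := by rw [hsq x hx, hinvh, mul_one, pow_two, mul_inv_rev]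
      have ho : orderOf (x * (h * x * h⁻¹)) = orderOf h := by
        rw [e, orderOf_inv, Nat.Coprime.orderOf_pow (Nat.coprime_two_right.mpr hho)]
      have h1' : orderOf h ≠ 1 := fun e => h1 (orderOf_eq_one_iff.mp e)
      rcases hpair x hx _ (hcl h x hx) (fun e' => h1' (by rw [← ho, ← e', hsq x hx, orderOf_one])) with e' | e' <;>
        rw [ho] at e' <;> rw [e'] at hho
      · exact absurd hho (by decide)
      · rw [h4] at hho; exact absurd hho (by decide)
    · push Not at hN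
      obtain ⟨N, hN, h2, hxN⟩ := hN
      haveI := Fact.mk Nat.prime_two
      have := hsol N hN (by haveI := h2.isNilpotent; infer_instance)
      rw [this, Subgroup.mem_bot] at hxN
      exact hx1 hxN
  have hprime : m.Prime := by
    obtain ⟨d, hd, hdm⟩ := Nat.exists_prime_and_dvd (show m ≠ 1 by omega)
    obtain ⟨e, he⟩ := hdm
    have hodd' := hodd
    rw [he, Nat.odd_mul] at hodd'
    obtain ⟨j, hj⟩ : ∃ j, e + m = 2 * j := ⟨(e + m) / 2, by
      obtain ⟨r, hr⟩ := hodd'.2; obtain ⟨r', hr'⟩ := hodd; omega⟩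
    obtain ⟨c, hc, ec⟩ := hpow a ha b hb j
    rw [← hj, pow_add, hm, pow_orderOf_eq_one, mul_one] at ec
    have ho : orderOf (a * c) = d := by
      rw [ec, orderOf_pow' _ (by obtain ⟨r, hr⟩ := hodd'.2; omega), ← hm, he, Nat.gcd_eq_right ⟨d, by ring⟩,
        Nat.mul_div_cancel _ (by obtain ⟨r, hr⟩ := hodd'.2; omega)]
    rcases hpair a ha c hc (fun e' => by rw [← e', hsq a ha, orderOf_one] at ho; have := hd.two_le; omega) with h | h <;>
      rw [ho] at h
    · exfalso; subst h; obtain ⟨r, hr⟩ := hodd'.1; omega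
    · exact h ▸ hd
  by_cases h5 : 5 ≤ m
  · have T : Two D m := ⟨hprime, h5, hinv, hcl, hpair⟩
    exact (T.not_commute hgen hclass hsol ha₀ hb₀ hne₀ hc₀).elim
  have hm3' : m = 3 := by
    obtain ⟨r, hr⟩ := hodd
    omega
  refine ⟨⟨hinv, fun c hc d hd => ?_⟩, ⟨x, hx, hD⟩, hgen⟩
  by_cases hcd : c = d
  · left; rw [hcd, hsq d hd, one_pow]
  · rcases hpair c hc d hd hcd with h | h
    · left; rw [← h, pow_orderOf_eq_one]
    · right; rw [← hm3', ← h, pow_orderOf_eq_one]

end CfsgLib.RankThreeTrans
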