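import Cfsg.Agent.Lib.RankThreeTrans.Basic
import Cfsg.Agent.Lib.Suzuki.Semisimple
import Cfsg.Agent.Lib.Suzuki.Lie
import Cfsg.Agent.Lib.LocalCT.NearMember

/-!
No dihedral group, `L₂(2ⁿ)` or Suzuki group carries such a set with the required members.
-/

set_option autoImplicit false
set_option linter.unusedSectionVars false

namespace CfsgLib.RankThreeTrans

open Matrix

universe u v

variable {p : ℕ}

/-- Transport along an isomorphism. -/
theorem Two.equiv {G : Type u} [Group G] {D : Set G} (T : Two D p) {Q : Type v} [Group Q] (e : G ≃* Q) :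
    Two (e '' D \ {1}) p := T.map e.toMonoidHom e.surjective

theorem no_dihedral {n : ℕ} {a b y : DihedralGroup n} (hab : Commute a b) (hya : ¬ Commute y a)
    (hca : IsConj y a) (hcb : IsConj y b) (hcc : IsConj y (a * b)) : False := by
  have hr : ∀ (g : DihedralGroup n) (i : ZMod n), ∃ j, g * DihedralGroup.r i * g⁻¹ = DihedralGroup.r j := by
    rintro (k | k) i
    · exact ⟨k + i + -k, by simp [DihedralGroup.r_mul_r, DihedralGroup.inv_r]⟩
    · exact ⟨-(i + k) + k, by simp [DihedralGroup.sr_mul_r, DihedralGroup.sr_mul_sr, DihedralGroup.inv_sr, sub_eq_add_neg, add_comm]⟩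
  have hs : ∀ (g : DihedralGroup n) (i : ZMod n), ∃ j, g * DihedralGroup.sr i * g⁻¹ = DihedralGroup.sr j := by
    intro g i
    cases h : g * DihedralGroup.sr i * g⁻¹ with
    | sr j => exact ⟨j, rfl⟩
    | r j =>
      exfalso
      obtain ⟨l, hl⟩ := hr g⁻¹ j
      rw [← h] at hl
      simp [mul_assoc] at hl
  obtain ⟨g, hg⟩ := isConj_iff.mp hca
  obtain ⟨g', hg'⟩ := isConj_iff.mp hcb
  obtain ⟨g'', hg''⟩ := isConj_iff.mp hcc
  cases y with
  | r i =>
    obtain ⟨j, hj⟩ := hr g i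
    rw [hg] at hj
    apply hya
    rw [hj, commute_iff_eq, DihedralGroup.r_mul_r, DihedralGroup.r_mul_r, add_comm]
  | sr i =>
    obtain ⟨j, hj⟩ := hs g i
    obtain ⟨k, hk⟩ := hs g' i
    obtain ⟨l, hl⟩ := hs g'' i
    rw [hg] at hj
    rw [hg'] at hk
    rw [hg'', hj, hk, DihedralGroup.sr_mul_sr] at hl
    exact absurd hl (by simp)

section SLTwo

variable {F : Type} [Field F] [Fintype F] [CharP F 2]

local notation "SL2" => Matrix.SpecialLinearGroup (Fin 2) F

theorem invol_sl2_conj {s : SL2} (h1 : s ≠ 1) (h2 : s * s = 1) :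
    ∃ P : SL2, s * P = P * ⟨!![0, 1; 1, 0], by simp [Matrix.det_fin_two, CharTwo.neg_eq]⟩ := by
  have hm : s.1 * s.1 = 1 := congrArg Subtype.val h2
  have e00 := congrFun (congrFun hm 0) 0
  have e01 := congrFun (congrFun hm 0) 1
  have e10 := congrFun (congrFun hm 1) 0
  have e11 := congrFun (congrFun hm 1) 1
  simp [Matrix.mul_apply, Fin.sum_univ_two] at e00 e01 e10 e11
  -- a vector and its image form a basis
  obtain ⟨x, y, hd⟩ : ∃ x y : F, x * (s.1 1 0 * x + s.1 1 1 * y) - (s.1 0 0 * x + s.1 0 1 * y) * y ≠ 0 := by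
    by_contra hall
    push Not at hall
    have c1 := hall 1 0
    have c2 := hall 0 1
    simp at c1 c2
    have c3 := hall 1 1
    simp [c1, c2] at c3
    apply h1
    have hd := s.2
    rw [Matrix.det_fin_two, c1, c2] at hd
    rw [c1, c2] at e00
    simp at e00 hd
    have h00 : s.1 0 0 = 1 := by
      have : (s.1 0 0 + 1) ^ 2 = 0 := by
        linear_combination e00 + (1 + s.1 0 0) * (CharTwo.two_eq_zero : (2 : F) = 0)
      exact CharTwo.add_eq_zero.mp (pow_eq_zero_iff (by norm_num) |>.mp this)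
    have h11 : s.1 1 1 = 1 := by rw [h00, one_mul] at hd; exact hd
    apply Subtype.ext
    ext i j
    fin_cases i <;> fin_cases j <;> simp [c1, c2, h00, h11]
  set d := x * (s.1 1 0 * x + s.1 1 1 * y) - (s.1 0 0 * x + s.1 0 1 * y) * y with hdd
  obtain ⟨k, hk⟩ := (FiniteField.isSquare_of_char_two (ringChar.eq F 2) d⁻¹ : IsSquare d⁻¹)
  refine ⟨⟨!![k * x, k * (s.1 0 0 * x + s.1 0 1 * y); k * y, k * (s.1 1 0 * x + s.1 1 1 * y)], ?_⟩, ?_⟩
  · rw [Matrix.det_fin_two]
    simp only [Matrix.of_apply, Matrix.cons_val', Matrix.cons_val_zero, Matrix.cons_val_one, Matrix.empty_val',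
      Matrix.cons_val_fin_one]
    have : k * k * d = 1 := by rw [← hk, inv_mul_cancel₀ hd]
    linear_combination this
  · apply Subtype.ext
    show s.1 * _ = _ * !![0, 1; 1, 0]
    ext i j
    fin_cases i <;> fin_cases j <;> simp [Matrix.mul_apply, Fin.sum_univ_two]
    · ring
    · linear_combination (k * x) * e00 + (k * y) * e01
    · ring
    · linear_combination (k * x) * e10 + (k * y) * e11

theorem no_sl2 {D : Set SL2} (T : Two D p) {s : SL2} (hs : s ∈ D) : False := by
  let W : SL2 := ⟨!![0, 1; 1, 0], by simp [Matrix.det_fin_two, CharTwo.neg_eq]⟩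
  let U : SL2 := ⟨!![1, 1; 0, 1], by simp [Matrix.det_fin_two]⟩
  have hW : ∀ t : SL2, t ≠ 1 → t * t = 1 → ∃ P : SL2, t = P * W * P⁻¹ := fun t h1 h2 => by
    obtain ⟨P, hP⟩ := invol_sl2_conj h1 h2
    exact ⟨P, eq_mul_inv_of_mul_eq hP⟩
  obtain ⟨P, hP⟩ := hW s (T.ne_one hs) (T.sq hs)
  have hWD : W ∈ D := by
    have := T.conj P⁻¹ s hs
    rw [hP] at this
    simpa [mul_assoc] using this
  have hU1 : U ≠ 1 := fun e => by
    have := congrFun (congrFun (congrArg Subtype.val e) 0) 1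
    simp [U] at this
  have hU2 : U * U = 1 := by
    apply Subtype.ext
    show !![(1 : F), 1; 0, 1] * !![1, 1; 0, 1] = 1
    ext i j
    fin_cases i <;> fin_cases j <;> simp [Matrix.mul_apply, Fin.sum_univ_two, CharTwo.add_self_eq_zero]
  obtain ⟨Q, hQ⟩ := hW U hU1 hU2
  have hUD : U ∈ D := hQ ▸ T.conj Q W hWD
  have hord : orderOf (U * W) = 3 := by
    haveI : Fact (Nat.Prime 3) := ⟨by norm_num⟩
    refine orderOf_eq_prime ?_ fun e => ?_
    · apply Subtype.ext
      rw [pow_succ, pow_two]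
      show !![(1 : F), 1; 0, 1] * !![0, 1; 1, 0] * (!![1, 1; 0, 1] * !![0, 1; 1, 0]) *
        (!![1, 1; 0, 1] * !![0, 1; 1, 0]) = 1
      ext i j
      fin_cases i <;> fin_cases j <;> simp [Matrix.mul_apply, Fin.sum_univ_two, CharTwo.add_self_eq_zero]
    · have h : (!![(1 : F), 1; 0, 1] * !![0, 1; 1, 0] : Matrix (Fin 2) (Fin 2) F) 1 1 = (1 : Matrix (Fin 2) (Fin 2) F) 1 1 :=
        congrFun (congrFun (congrArg Subtype.val e :) 1) 1
      simp [Matrix.mul_apply, Fin.sum_univ_two] at h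
  have := T.five
  rcases T.pair U hUD W hWD (fun e => by rw [e, T.sq hWD, orderOf_one] at hord; omega) with e | e <;>
    rw [hord] at e <;> omega

theorem no_psl2 {D : Set (Matrix.ProjectiveSpecialLinearGroup (Fin 2) F)} (T : Two D p)
    {s : Matrix.ProjectiveSpecialLinearGroup (Fin 2) F} (hs : s ∈ D) : False := by
  obtain ⟨e⟩ := CfsgLib.LocalCT.sl_equiv_psl (F := F)
  exact no_sl2 (T.equiv e.symm) (s := e.symm s) ⟨⟨s, hs, rfl⟩, fun h =>
    T.ne_one hs (e.symm.injective (h.trans (map_one e.symm).symm))⟩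

end SLTwo

section Suzuki

open CfsgLib.Suzuki

variable {F : Type} [Field F] [Fintype F] {m : ℕ} (hF : Fintype.card F = 2 ^ (2 * m + 1))
include hF

theorem no_sz (hm : 1 ≤ m) {D : Set ↥(Cfsg.Sz F m)} (T : Two D p) {s : ↥(Cfsg.Sz F m)} (hs : s ∈ D) : False := by
  classical
  have h2 : (2 : F) = 0 := two_eq_zero hF
  have hstd : ∀ j : ↥(Cfsg.Sz F m), j ≠ 1 → j * j = 1 → ∃ g, j = g * uS hF (0 : F) 1 * g⁻¹ := by
    intro j h1 hj
    obtain ⟨-, g, hg⟩ := invol_unip hF hm h1 hj
    obtain ⟨a, b, hab⟩ := hg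
    have hsq : uS hF a b * uS hF a b = 1 := by
      rw [← hab, show g⁻¹ * j * g * (g⁻¹ * j * g) = g⁻¹ * (j * j) * g by group, hj]; group
    rw [uS_mul, ← uS_zero hF] at hsq
    obtain ⟨-, hb'⟩ := uS_inj hF hsq
    have ha : a = 0 := by
      have : th m a * a = 0 := by linear_combination hb' - b * h2
      rcases mul_eq_zero.mp this with e | e
      · exact th_eq_zero_iff.mp e
      · exact e
    subst ha
    have hb : b ≠ 0 := fun e => h1 (by
      rw [e, uS_zero] at hab
      calc j = g * (g⁻¹ * j * g) * g⁻¹ := by group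
        _ = 1 := by rw [hab]; group)
    obtain ⟨t, ht⟩ := th_sq_surj hF hb
    refine ⟨g * dS hF t, ?_⟩
    have := dS_uS hF t (0 : F) 1
    rw [mul_zero, mul_one, ht, ← hab] at this
    calc j = g * (g⁻¹ * j * g) * g⁻¹ := by group
      _ = _ := by rw [← this]; group
  have hu1 : uS hF (0 : F) 1 ∈ D := by
    obtain ⟨g, hg⟩ := hstd s (T.ne_one hs) (T.sq hs)
    have := T.conj g⁻¹ s hs
    rw [hg] at this
    simpa [mul_assoc] using this
  have hall : ∀ j : ↥(Cfsg.Sz F m), j ≠ 1 → j * j = 1 → j ∈ D := fun j h1 hj => by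
    obtain ⟨g, hg⟩ := hstd j h1 hj
    exact hg ▸ T.conj g _ hu1
  have hw1 : wS hF ≠ 1 := fun e => by
    have := congrFun (congrFun (congrArg Subtype.val (congrArg Subtype.val e :)) 0) 0
    simp [wS, wEl, mW] at this
  have hwD : wS hF ∈ D := hall _ hw1 (wS_mul_self hF)
  -- order five
  have h5 : orderOf (uS hF (0 : F) 1 * wS hF) = 5 := by
    haveI : Fact (Nat.Prime 5) := ⟨by norm_num⟩
    refine orderOf_eq_prime ?_ fun e => ?_
    · apply Subtype.ext
      apply Subtype.ext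
      rw [pow_succ, pow_succ, pow_succ, pow_two]
      show mU m (0 : F) 1 * mW * (mU m 0 1 * mW) * (mU m 0 1 * mW) * (mU m 0 1 * mW) * (mU m 0 1 * mW) = 1
      ext i j
      fin_cases i <;> fin_cases j <;>
        simp [mU, mW, fp, th, Matrix.mul_apply, Fin.sum_univ_four, show ∀ z : F, z + z = 0 from fun z => by linear_combination z * h2]
    · have h : (mU m (0 : F) 1 * mW : Matrix (Fin 4) (Fin 4) F) 3 3 = (1 : Matrix (Fin 4) (Fin 4) F) 3 3 :=
        congrFun (congrFun (congrArg Subtype.val (congrArg Subtype.val e :) :) 3) 3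
      simp [mU, mW, Matrix.mul_apply, Fin.sum_univ_four] at h
  have hp5 : p = 5 := by
    rcases T.pair _ hu1 _ hwD (fun e => by rw [e, T.sq hwD, orderOf_one] at h5; omega) with e | e <;>
      rw [h5] at e <;> omega
  -- a torus generator
  obtain ⟨t, ht⟩ := IsCyclic.exists_generator (α := Fˣ)
  have hto : orderOf t = 2 ^ (2 * m + 1) - 1 := by
    rw [orderOf_eq_card_of_forall_mem_zpowers ht, Nat.card_eq_fintype_card, Fintype.card_units, hF]
  have hdo : orderOf (dS hF t) = 2 ^ (2 * m + 1) - 1 := by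
    rw [← hto]
    exact orderOf_injective (dHomS hF) (fun x y e => dS_inj hF e) t
  have h8 : 2 ^ 3 ≤ 2 ^ (2 * m + 1) := Nat.pow_le_pow_right two_pos (by omega)
  have hv1 : wS hF * dS hF t ≠ 1 := fun e => by
    have h : (mW * mD m (t : F) : Matrix (Fin 4) (Fin 4) F) 0 0 = (1 : Matrix (Fin 4) (Fin 4) F) 0 0 :=
      congrFun (congrFun (congrArg Subtype.val (congrArg Subtype.val e :) :) 0) 0
    simp [mW, mD, Matrix.mul_apply, Fin.sum_univ_four] at h
  have hv2 : wS hF * dS hF t * (wS hF * dS hF t) = 1 := by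
    rw [← mul_assoc, wS_dS, dS_mul, inv_mul_cancel, dS_one]
  have hmul : wS hF * (wS hF * dS hF t) = dS hF t := by rw [← mul_assoc, wS_mul_self, one_mul]
  have hne : wS hF ≠ wS hF * dS hF t := fun e => by
    rw [← e, wS_mul_self] at hmul
    rw [← hmul, orderOf_one] at hdo
    omega
  rcases T.pair _ hwD _ (hall _ hv1 hv2) hne with e | e <;> rw [hmul, hdo] at e <;> omega

end Suzuki

end CfsgLib.RankThreeTrans
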