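import Cfsg.Agent.Lib.RankThreeTrans.Line
import Cfsg.Agent.Lib.ThreeTrans.OddTrans

/-!
For commuting `a, b` and an opposite `y` of both, `y` commutes with its conjugate under `a b`.

Otherwise `c = a b z` is a member for the central involution `z` of `⟨y, a b⟩` (or `z = 1`), and `a, b` give a line
modulo `z`.
-/

set_option autoImplicit false
set_option linter.unusedSectionVars false

namespace CfsgLib.RankThreeTrans

universe u

variable {G : Type u} [Group G] [Finite G] {D : Set G} {p : ℕ}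

theorem Two.square (T : Two D p) {a b y : G} (ha : a ∈ D) (hb : b ∈ D) (hy : y ∈ D) (hne : a ≠ b) (hab : Commute a b)
    (hya : ¬ Commute y a) (hyb : ¬ Commute y b) : Commute y (a * b * y * (a * b)) := by
  classical
  set u := a * b with hu
  have hu2 : u * u = 1 := (T.commute_iff ha hb).mp hab
  have hui : u⁻¹ = u := inv_eq_of_mul_eq_one_right hu2
  have huy : ¬ Commute u y := fun h => hya (T.translate ha hb hne hab hy h).1
  have hyu : u * y * u ∈ D := by simpa [hui] using T.conj u y hy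
  have hne' : y ≠ u * y * u := fun e => huy (by
    show u * y = y * u
    calc u * y = u * y * (u * u) := by rw [hu2, mul_one]
      _ = (u * y * u) * u := by group
      _ = y * u := by rw [← e])
  by_contra hcon
  have hp := T.order_of_not hy hyu hcon
  obtain ⟨k, hk⟩ := T.odd_p
  set z := (y * u) ^ p with hz
  have hyy := T.sq hy
  have hz2 : z * z = 1 := by
    rw [hz, ← (Commute.refl (y * u)).mul_pow, show y * u * (y * u) = y * (u * y * u) by group, ← hp, pow_orderOf_eq_one]
  have hzi : z⁻¹ = z := inv_eq_of_mul_eq_one_right hz2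
  have hzy : Commute z y := by
    have h1 : y * z * y = z⁻¹ := CfsgThreeTrans.inv_conj_pow hyy hu2 p
    rw [hzi] at h1
    show z * y = y * z
    calc z * y = (y * z * y) * y := by rw [h1]
      _ = y * z * (y * y) := by group
      _ = y * z := by rw [hyy, mul_one]
  have hzu : Commute z u := by
    have h1 : Commute z (y * (y * u)) := hzy.mul_right ((Commute.refl (y * u)).pow_left p)
    rwa [← mul_assoc, hyy, one_mul] at h1
  -- the third member
  set c := u * z with hc
  have hcD : c ∈ D := by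
    have h1 := CfsgThreeTrans.conj_pow_mul hyy hu2 (k + 1)
    have h2 : c = y * (y * u) ^ (2 * (k + 1)) := by
      rw [show 2 * (k + 1) = p + 1 by omega, pow_succ, ← hz, hc]
      calc u * z = y * y * (u * z) := by rw [hyy, one_mul]
        _ = y * ((y * u) * z) := by group
        _ = _ := by rw [((Commute.refl (y * u)).pow_right p : Commute (y * u) z).eq]
    rw [h2, ← h1]
    simpa using T.conj ((y * u) ^ (k + 1))⁻¹ y hy
  by_cases hz1 : z = 1
  · rw [hc, hz1, mul_one] at hcD
    exact T.no_line ha hb hy hab hcD hya hyb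
  have hcu : Commute u c := (Commute.refl u).mul_right hzu.symm
  obtain ⟨hca, hcb⟩ := T.translate ha hb hne hab hcD hcu
  have hua : Commute u a := (Commute.refl a).mul_left hab.symm
  have hub : Commute u b := hab.mul_left (Commute.refl b)
  have hzc : z = u * c := by rw [hc, ← mul_assoc, hu2, one_mul]
  have hza : Commute z a := hzc ▸ hua.mul_left hca
  have hzb : Commute z b := hzc ▸ hub.mul_left hcb
  -- modulo the central involution there is a line
  set H := Subgroup.closure ({a, b, y} : Set G) with hH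
  have haH : a ∈ H := Subgroup.subset_closure (by simp)
  have hbH : b ∈ H := Subgroup.subset_closure (by simp)
  have hyH : y ∈ H := Subgroup.subset_closure (by simp)
  have hzH : z ∈ H := pow_mem (mul_mem hyH (mul_mem haH hbH)) p
  have hcH : c ∈ H := mul_mem (mul_mem haH hbH) hzH
  set zH : H := ⟨z, hzH⟩
  have hcent : H ≤ Subgroup.centralizer {z} := (Subgroup.closure_le _).mpr (by
    rintro g (rfl | rfl | rfl) <;> rw [SetLike.mem_coe, Subgroup.mem_centralizer_singleton_iff]
    exacts [hza.eq.symm, hzb.eq.symm, hzy.eq.symm])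
  haveI : (Subgroup.zpowers zH).Normal := ⟨fun x hx g => by
    obtain ⟨i, rfl⟩ := Subgroup.mem_zpowers_iff.mp hx
    have hg : Commute g zH := Subtype.ext (Subgroup.mem_centralizer_singleton_iff.mp (hcent g.2))
    rw [(hg.zpow_right i).eq, mul_inv_cancel_right]
    exact Subgroup.mem_zpowers_iff.mpr ⟨i, rfl⟩⟩
  let f := QuotientGroup.mk' (Subgroup.zpowers zH)
  have hker : ∀ g : H, f g = 1 → (g : G) = 1 ∨ (g : G) = z := by
    intro g hg
    obtain ⟨i, hi⟩ := Subgroup.mem_zpowers_iff.mp ((QuotientGroup.eq_one_iff g).mp hg)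
    have hgi : (g : G) = z ^ i := by rw [← hi]; rfl
    rw [hgi]
    have hz2' : z ^ (2 : ℤ) = 1 := by rw [zpow_two, hz2]
    rcases Int.even_or_odd i with ⟨j, rfl⟩ | ⟨j, rfl⟩
    · left; rw [← two_mul, zpow_mul, hz2', one_zpow]
    · right; rw [zpow_add_one, zpow_mul, hz2', one_zpow, one_mul]
  have hnz : ∀ g : G, g ≠ 1 → ¬ Commute g y → ∀ hg : g ∈ H, f ⟨g, hg⟩ ≠ 1 := fun g hg1 hgy hgH e => by
    rcases hker _ e with e' | e'
    · exact hg1 e'
    · exact hgy ((show g = z from e') ▸ hzy)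
  have hopp : ∀ d ∈ D, ∀ hd : d ∈ H, ¬ Commute y d → ¬ Commute (f ⟨y, hyH⟩) (f ⟨d, hd⟩) := by
    intro d hdD hd hyd hcm
    have h1 : f ((⟨y, hyH⟩ * ⟨d, hd⟩) * (⟨y, hyH⟩ * ⟨d, hd⟩)) = 1 := by
      rw [← pow_two, map_pow, map_mul, hcm.mul_pow, ← map_pow, ← map_pow, pow_two, pow_two,
        show (⟨y, hyH⟩ * ⟨y, hyH⟩ : H) = 1 from Subtype.ext hyy,
        show (⟨d, hd⟩ * ⟨d, hd⟩ : H) = 1 from Subtype.ext (T.sq hdD), map_one, one_mul]
    have h4 : ((y * d) * (y * d)) * ((y * d) * (y * d)) = 1 := by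
      rcases hker _ h1 with e | e <;> simp only [Subgroup.coe_mul] at e <;> rw [e]
      · rw [one_mul]
      · exact hz2
    have ho := T.order_of_not hy hdD hyd
    have h5 : orderOf (y * d) ∣ 4 := orderOf_dvd_of_pow_eq_one (by rw [pow_succ, pow_succ, pow_two]; simpa only [mul_assoc] using h4)
    have := T.five
    have := Nat.le_of_dvd (by norm_num) h5
    omega
  have hu1 : u ≠ 1 := fun e => huy (e ▸ Commute.one_left y)
  have hfu : f (⟨a, haH⟩ * ⟨b, hbH⟩) = f ⟨c, hcH⟩ := by
    rw [show (⟨c, hcH⟩ : H) = ⟨a, haH⟩ * ⟨b, hbH⟩ * zH from rfl, map_mul f (_ * _) zH]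
    rw [show f zH = 1 from (QuotientGroup.eq_one_iff _).mpr (Subgroup.mem_zpowers zH), mul_one]
  refine ((T.sub H).map f (QuotientGroup.mk'_surjective _)).no_line (a := f ⟨a, haH⟩) (b := f ⟨b, hbH⟩) (y := f ⟨y, hyH⟩)
    ⟨⟨_, ha, rfl⟩, hnz a (T.ne_one ha) (fun h => hya h.symm) haH⟩
    ⟨⟨_, hb, rfl⟩, hnz b (T.ne_one hb) (fun h => hyb h.symm) hbH⟩
    ⟨⟨_, hy, rfl⟩, fun e => hopp a ha haH hya (e ▸ Commute.one_left _)⟩
    ((show Commute (⟨a, haH⟩ : H) ⟨b, hbH⟩ from Subtype.ext hab.eq).map f) ?_ (hopp a ha haH hya) (hopp b hb hbH hyb)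
  rw [← map_mul]
  exact ⟨⟨⟨c, hcH⟩, hcD, hfu.symm⟩, hnz u hu1 huy (mul_mem haH hbH)⟩

end CfsgLib.RankThreeTrans
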